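import Cfsg.Agent.Lib.Small.Generation.TwoReg.Engine

/-!
From parameters to two conjugate regular unipotent generators of `SU_3(q)`.
-/

set_option autoImplicit false
set_option linter.unusedSectionVars false

namespace Cfsg.Agent.Small.Generation.TwoReg

open Matrix Cfsg.Agent.Small.Unitary

variable {F : Type*} [Field F] [Fintype F] [StarRing F] {q : ℕ}

/-- The conclusion. -/
def TwoGen (F : Type*) [Field F] [Fintype F] (q : ℕ) : Prop :=
  ∃ u g : ↥(Cfsg.SU 3 F q), (IsNilpotent (u.1.1 - 1) ∧ (u.1.1 - 1) ^ (3 - 1) ≠ 0) ∧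
    Subgroup.closure ({u, g * u * g⁻¹} : Set ↥(Cfsg.SU 3 F q)) = ⊤

theorem regular (hstar : ∀ x : F, star x = x ^ q) (P : Frame F) {a : F}
    (ha : a + star a + 1 = 0) :
    IsNilpotent ((eich hstar P.e P.d a).1.1 - 1) ∧
      ((eich hstar P.e P.d a).1.1 - 1) ^ (3 - 1) ≠ 0 := by
  have hz : a + star a + star (1 : F) * 1 = 0 := by simpa using ha
  set u := eich hstar P.e P.d a with hu
  have hstep : ∀ α β γ : F, (u.1.1 - 1) *ᵥ P.co α β γ = P.co (a * γ - β) γ 0 := by
    intro α β γ
    rw [Matrix.sub_mulVec, Matrix.one_mulVec,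
      show u.1.1 *ᵥ P.co α β γ = act (eich hstar P.e ((1 : F) • P.d) a) (P.co α β γ) by
        rw [hu, one_smul]; rfl, P.act_up hstar hz, sub_eq_iff_eq_add, P.co_add]
    congr 1 <;> simp <;> ring
  have h0 : P.co 0 0 0 = 0 := by simp [P.co_eq]
  refine ⟨⟨3, ext_mulVec fun x => ?_⟩, fun h => P.e_ne ?_⟩
  · rw [P.expand x, pow_succ, pow_succ, pow_one, ← Matrix.mulVec_mulVec, ← Matrix.mulVec_mulVec,
      hstep, hstep, hstep, Matrix.zero_mulVec, ← h0]
    congr 1 <;> ring
  · have h1 : (u.1.1 - 1) ^ (3 - 1) *ᵥ P.co 0 0 (-1) = 0 := by rw [h, Matrix.zero_mulVec]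
    rw [show (3 - 1 : ℕ) = 2 from rfl, pow_two, ← Matrix.mulVec_mulVec, hstep, hstep] at h1
    rw [← h1, Frame.e]
    congr 1 <;> ring

theorem two_of_data {hstar : ∀ x : F, star x = x ^ q} (hF : Fintype.card F = q ^ 2) (hq : q ≠ 2)
    (P : Frame F) {a s z b μ : F} (ha : a + star a + 1 = 0) (hs : s ≠ 0) (r : F)
    (hz : z = -(star s * star s / s)) (hb : b = star s * s * a + r - star r) (hμ : μ ≠ 0)
    (hgen : Gen (star μ * star μ / μ))
    (hword : b + star b + star z * z = 0 → ∀ G : Subgroup (Cfsg.SU 3 F q),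
      eich hstar P.e ((1 : F) • P.d) a ∈ G → eich hstar P.f (z • P.d) b ∈ G →
      ∃ w ∈ G, act w P.e = μ • P.e) : TwoGen F q := by
  obtain ⟨g, hg⟩ := P.exists_conj hstar ha hs r
  rw [← hz, ← hb] at hg
  refine ⟨eich hstar P.e P.d a, g, regular hstar P ha, ?_⟩
  rw [hg]
  set G := Subgroup.closure ({eich hstar P.e P.d a, eich hstar P.f (z • P.d) b} :
    Set ↥(Cfsg.SU 3 F q))
  have hu : eich hstar P.e P.d a ∈ G := Subgroup.subset_closure (Set.mem_insert _ _)
  have hv : eich hstar P.f (z • P.d) b ∈ G :=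
    Subgroup.subset_closure (Set.mem_insert_of_mem _ rfl)
  have hok : b + star b + star z * z = 0 := by
    have hs' : star s ≠ 0 := star_ne_zero.mpr hs
    rw [hz, hb]
    simp only [star_add, star_sub, star_neg, star_mul', star_div₀, star_star]
    field_simp
    linear_combination (star s * s) * ha
  obtain ⟨w, hw, hwe⟩ := hword hok G (by rwa [one_smul]) hv
  refine eq_top_of_word hF hq P ha hu hv ?_ hw hμ hwe hgen
  rw [Frame.e, P.act_lo hstar hok, P.herm_co]
  simp only [star_zero, star_one, zero_mul, one_mul, mul_zero, mul_one, add_zero, zero_add,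
    sub_zero]
  intro h
  rw [h, zero_add, star_zero, zero_add] at hok
  have hs' : star s ≠ 0 := star_ne_zero.mpr hs
  have : z ≠ 0 := by rw [hz]; exact neg_ne_zero.mpr (div_ne_zero (mul_ne_zero hs' hs') hs)
  exact mul_ne_zero (star_ne_zero.mpr this) this hok

/-- The family for `q ∉ {2, 5, 8}`. -/
theorem two_general {hstar : ∀ x : F, star x = x ^ q} (hF : Fintype.card F = q ^ 2) (hq : q ≠ 2)
    (P : Frame F) {c : F} (hc : c + star c = -1) (hc0 : c ≠ 0)
    (hgen : Gen (star (c / star c) * star (c / star c) / (c / star c))) : TwoGen F q := by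
  have hcs : star c ≠ 0 := star_ne_zero.mpr hc0
  have hN : c * star c ≠ 0 := mul_ne_zero hc0 hcs
  refine two_of_data (hstar := hstar) hF hq P (a := star c + (c - star c) * (c * star c))
    (s := -(1 / (c * star c))) (z := 1 / (c * star c)) (b := 1 / (star c * (c * star c))) ?_
    (neg_ne_zero.mpr (one_div_ne_zero hN)) (c * (1 - c * star c) / ((c * star c) * (c * star c)))
    ?_ ?_ (div_ne_zero hc0 hcs) hgen ?_
  · simp only [star_add, star_sub, star_mul', star_star]
    linear_combination hc
  · simp only [star_neg, star_div₀, star_one, star_mul', star_star]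
    field_simp
  · simp only [star_neg, star_div₀, star_one, star_mul', star_sub, star_star]
    field_simp
    ring
  intro hb G hu hv
  have ha : star c + (c - star c) * (c * star c) +
      star (star c + (c - star c) * (c * star c)) + star (1 : F) * 1 = 0 := by
    simp only [star_add, star_sub, star_mul', star_star, star_one]
    linear_combination hc
  refine ⟨_, mul_mem (mul_mem hv hu) hv, ?_⟩
  change act _ (P.co 1 0 0) = (c / star c) • P.co 1 0 0
  rw [act_mul, act_mul, P.act_lo hstar hb, P.act_up hstar ha, P.act_lo hstar hb, P.co_smul]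
  have hc' : star c = -1 - c := by linear_combination hc
  congr 1 <;> simp only [star_div₀, star_one, star_mul', star_star] <;> field_simp <;>
    rw [hc'] <;> ring

end Cfsg.Agent.Small.Generation.TwoReg
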