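import Cfsg.Agent.Lib.Small.Generation.TwoReg.Frame
import Cfsg.Agent.Lib.Small.Generation.SUThree.Centres
import Cfsg.Agent.Lib.Small.Unitary.Generation

/-!
A regular unipotent element and a conjugate of it in the opposite root group generate `SU_3(q)` as
soon as some element of the group they generate fixes the first isotropic line with a multiplier
generating the field.
-/

set_option autoImplicit false
set_option linter.unusedSectionVars false
set_option linter.style.haveILetI false

namespace Cfsg.Agent.Small.Generation.TwoReg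

open Matrix Cfsg.Agent.Small.Unitary Cfsg.Agent.Small.Generation.SUThree

variable {F : Type*} [Field F] [Fintype F] [StarRing F] {q : ℕ}

/-- `x` generates the field. -/
def Gen (x : F) : Prop := ∀ S : Subfield F, x ∈ S → S = ⊤

theorem gen_of_pow {p m : ℕ} (hp : p.Prime) (hF : Fintype.card F = p ^ m) {x : F}
    (h : ∀ d k : ℕ, d * k = m → 2 ≤ k → x ^ (p ^ d) ≠ x) : Gen x := by
  classical
  intro S hx
  haveI : Fintype S := Fintype.ofFinite _
  have hcard : Fintype.card F = Fintype.card S ^ Module.finrank S F := Module.card_eq_pow_finrank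
  set k := Module.finrank S F with hk
  have hk0 : 0 < k := Module.finrank_pos
  rw [hF] at hcard
  obtain ⟨d, -, hd⟩ := (Nat.dvd_prime_pow hp).mp
    (show Fintype.card S ∣ p ^ m by rw [hcard]; exact dvd_pow_self _ (by omega))
  rw [hd, ← pow_mul] at hcard
  have hdk := (Nat.pow_right_injective hp.two_le hcard).symm
  rcases Nat.lt_or_ge k 2 with h2 | h2
  · obtain rfl : d = m := by
      obtain h1 : k = 1 := by omega
      rw [h1, mul_one] at hdk; exact hdk
    refine SetLike.coe_injective (Set.eq_univ_of_forall fun y => ?_)
    have hb : Function.Bijective (fun s : S => (s : F)) :=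
      (Fintype.bijective_iff_injective_and_card _).mpr ⟨Subtype.coe_injective, by rw [hd, hF]⟩
    obtain ⟨s, hs⟩ := hb.2 y
    rw [← hs]
    exact s.2
  · exfalso
    have h1 := congrArg (fun s : S => (s : F)) (FiniteField.pow_card (⟨x, hx⟩ : S))
    simp only [SubmonoidClass.coe_pow] at h1
    rw [hd] at h1
    exact h d k hdk h2 h1

theorem eq_top_of_trans {n : ℕ} {hstar : ∀ x : F, star x = x ^ q}
    {G : Subgroup (Cfsg.SU n F q)} (hF : Fintype.card F = q ^ 2) (hn : 3 ≤ n)
    (hex : ¬(n = 3 ∧ q = 2)) {v : Fin n → F} (hv0 : v ≠ 0) (hv : herm v v = 0)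
    (h : ∀ (w : Fin n → F) (hw : herm w w = 0) (t : F) (ht : star t = -t),
      trans hstar w hw t ht ∈ G) : G = ⊤ := by
  have h1 : G.normalCore = ⊤ := normal_eq_top (hstar := hstar) hF hn hex hv0 hv fun t ht b => by
    rw [conj_trans hstar b v hv t ht]
    exact h _ _ _ _
  exact eq_top_iff.mpr (h1 ▸ G.normalCore_le)

/-- The stabiliser step: all transvections from the upper root group and one moving element. -/
theorem eq_top_of_upper {hstar : ∀ x : F, star x = x ^ q} {G : Subgroup (Cfsg.SU 3 F q)}
    (hF : Fintype.card F = q ^ 2) (hq : q ≠ 2) (P : Frame F)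
    (hU : ∀ z b : F, b + star b + star z * z = 0 → eich hstar P.e (z • P.d) b ∈ G)
    {g : Cfsg.SU 3 F q} (hg : g ∈ G) (hoff : herm P.e (act g P.e) ≠ 0) : G = ⊤ := by
  have hCe : Ctr hstar G P.e := ⟨P.ee, fun t ht => by
    have := hU 0 t (by rw [ht]; simp)
    rwa [zero_smul] at this⟩
  have hall : ∀ y : Fin 3 → F, herm y y = 0 → Ctr hstar G y := by
    intro y hy
    by_cases hye : herm P.e y = 0
    · have hd : herm P.d y = 0 := by
        have h1 := hy
        rw [P.expand y, hye, P.herm_co] at h1
        simp only [star_zero, mul_zero, zero_mul, zero_add, add_zero] at h1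
        rcases mul_eq_zero.mp h1 with h2 | h2
        exacts [star_eq_zero.mp h2, h2]
      rw [P.expand y, hye, hd,
        show P.co (herm P.f y) 0 0 = herm P.f y • P.e by simp [Frame.e, P.co_smul]]
      exact hCe.smul _
    · set x := act g P.e with hx
      have hxx : herm x x = 0 := by rw [hx, herm_act hstar]; exact P.ee
      set c := herm P.e x with hc
      set y' := (c / herm P.e y) • y with hy'
      have hy'y : herm y' y' = 0 := by rw [herm_smul_left, herm_smul_right, hy, mul_zero, mul_zero]
      have hey' : herm P.e y' = c := by rw [herm_smul_right, div_mul_cancel₀ _ hye]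
      -- translate `x` to `y'`
      set w := c⁻¹ • (y' - x) with hw
      have hew : herm P.e w = 0 := by rw [herm_smul_right, herm_sub_right, hey', sub_self, mul_zero]
      set z := herm P.d w with hz
      set b := herm P.f w with hb
      have hwz : w = b • P.e + z • P.d := by
        conv_lhs => rw [P.expand w, hew, P.co_eq, zero_smul, add_zero]
      set a := herm P.d x * star z / c with ha
      have hYX : y' = x + (c * b) • P.e + (c * z) • P.d := by
        rw [mul_smul, mul_smul, add_assoc, ← smul_add, ← hwz, hw, smul_inv_smul₀ hoff,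
          add_sub_cancel]
      have hzd : herm (z • P.d) x = star z * herm P.d x := herm_smul_left _ _ _
      have hok : b + star z * herm P.d x / c + star (b + star z * herm P.d x / c) + star z * z = 0 := by
        have h1 := hy'y
        rw [hYX] at h1
        simp only [herm_add_left, herm_add_right, herm_smul_left, herm_smul_right, hxx, P.ee,
          P.ed, herm_comm_zero P.ed, P.dd, ← star_herm P.e x, ← star_herm P.d x, ← hc] at h1
        simp only [star_add, star_div₀, star_mul', star_star] at h1 ⊢
        have hcs : star c ≠ 0 := star_ne_zero.mpr hoff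
        field_simp
        linear_combination h1
      have hey : act (eich hstar P.e (z • P.d) (b + star z * herm P.d x / c)) x = y' := by
        rw [act_eich hstar (P.ok_up hok), hzd, ← hc, hYX, smul_smul,
          show (b + star z * herm P.d x / c) * c - star z * herm P.d x = c * b by field_simp; ring]
        abel
      have h2 := ((hCe.act hg).act (hU z _ hok))
      rw [← hx, hey] at h2
      have h3 := h2.smul (herm P.e y / c)
      rwa [hy', smul_smul, show herm P.e y / c * (c / herm P.e y) = 1 by field_simp, one_smul] at h3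
  refine eq_top_of_trans hF le_rfl (fun h => hq h.2) P.e_ne P.ee (hstar := hstar) fun w hw t ht => ?_
  rw [trans_eq_eich hstar hw ht]
  exact (hall w hw).2 t ht

/-- The main criterion. -/
theorem eq_top_of_word {hstar : ∀ x : F, star x = x ^ q} {G : Subgroup (Cfsg.SU 3 F q)}
    (hF : Fintype.card F = q ^ 2) (hq : q ≠ 2) (P : Frame F) {a : F} (ha : a + star a + 1 = 0)
    (hu : eich hstar P.e P.d a ∈ G) {g : Cfsg.SU 3 F q} (hg : g ∈ G)
    (hoff : herm P.e (act g P.e) ≠ 0) {r : Cfsg.SU 3 F q} (hr : r ∈ G) {μ : F} (hμ : μ ≠ 0)
    (hre : act r P.e = μ • P.e) (hgen : Gen (star μ * star μ / μ)) : G = ⊤ := by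
  -- the middle coefficient of `r`
  have hrd0 : herm P.e (act r P.d) = 0 := by
    have h1 : herm (act r P.e) (act r P.d) = 0 := by rw [herm_act hstar]; exact P.ed
    rw [hre, herm_smul_left] at h1
    exact (mul_eq_zero.mp h1).resolve_left (star_ne_zero.mpr hμ)
  set κ := herm P.d (act r P.d) with hκd
  set η := herm P.f (act r P.d) with hηd
  have hrd : act r P.d = η • P.e + κ • P.d := by
    conv_lhs => rw [P.expand (act r P.d), hrd0, P.co_eq, zero_smul, add_zero]
  have hκ : κ = star μ / μ := by
    set ν := herm P.e (act r P.f) with hν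
    have hν1 : star μ * ν = 1 := by
      have h1 := herm_act hstar r P.e P.f
      rw [hre, herm_smul_left, ← hν] at h1
      rw [h1]; simp [Frame.e, Frame.f, P.herm_co]
    have hrf : act r P.f = P.co (herm P.f (act r P.f)) (herm P.d (act r P.f)) ν := P.expand _
    set M : Matrix (Fin 3) (Fin 3) F :=
      !![μ, η, herm P.f (act r P.f); 0, κ, herm P.d (act r P.f); 0, 0, ν] with hM
    have hRQ : r.1.1 * P.Q = P.Q * M := by
      have hcol : ∀ j, r.1.1 *ᵥ (P.Q *ᵥ Pi.single j 1) = P.Q *ᵥ (M *ᵥ Pi.single j 1) := by
        intro j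
        have hs : ∀ j : Fin 3, (Pi.single j 1 : Fin 3 → F) =
            ![![1, 0, 0], ![0, 1, 0], ![0, 0, 1]] j := by
          intro j; fin_cases j <;> funext i <;> fin_cases i <;> simp
        have hMc : ∀ j : Fin 3, M *ᵥ Pi.single j 1 =
            ![![μ, 0, 0], ![η, κ, 0], ![herm P.f (act r P.f), herm P.d (act r P.f), ν]] j := by
          intro j
          rw [Matrix.mulVec_single_one]
          fin_cases j <;> funext i <;> fin_cases i <;> simp [hM]
        rw [hMc, hs]
        fin_cases j
        · change act r P.e = P.co μ 0 0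
          rw [hre, Frame.e, P.co_smul]; simp
        · change act r P.d = P.co η κ 0
          rw [hrd, P.co_eq, zero_smul, add_zero]
        · exact hrf
      refine ext_mulVec fun x => ?_
      rw [← Matrix.mulVec_mulVec, ← Matrix.mulVec_mulVec, ← Finset.univ_sum_single x]
      simp only [Matrix.mulVec_sum]
      refine Finset.sum_congr rfl fun j _ => ?_
      rw [show (Pi.single j (x j) : Fin 3 → F) = x j • Pi.single j 1 by
        rw [← Pi.single_smul, smul_eq_mul, mul_one]]
      simp only [Matrix.mulVec_smul, hcol]
    have hd := congrArg Matrix.det hRQ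
    rw [Matrix.det_mul, Matrix.det_mul, r.1.2, one_mul] at hd
    have hQ0 : P.Q.det ≠ 0 := fun h => by
      have := congrArg Matrix.det P.right_inv
      rw [Matrix.det_mul, h, zero_mul, Matrix.det_one] at this
      exact zero_ne_one this
    have hMd : M.det = μ * κ * ν := by simp [hM, Matrix.det_fin_three]
    have h1 : μ * κ * ν = 1 := by
      rw [← hMd]
      exact mul_left_cancel₀ hQ0 (by rw [← hd, mul_one])
    rw [eq_div_iff hμ]
    linear_combination (star μ) * h1 - (μ * κ) * hν1
  -- the additive set of translations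
  let L : Set F := {z | ∃ b, b + star b + star z * z = 0 ∧ eich hstar P.e (z • P.d) b ∈ G}
  have hadd : ∀ z w, z ∈ L → w ∈ L → z + w ∈ L := by
    rintro z w ⟨b, hb, hbG⟩ ⟨c, hc, hcG⟩
    have h := mul_mem hbG hcG
    rw [eich_mul hstar (P.ok_up hb) (P.ok_up hc), ← add_smul] at h
    refine ⟨_, ?_, h⟩
    rw [herm_smul_left, herm_smul_right, P.dd, mul_one]
    simp only [star_add, star_sub, star_mul', star_star]
    linear_combination hb + hc
  have h1L : (1 : F) ∈ L := ⟨a, by simpa using ha, by rwa [one_smul]⟩
  have h0L : (0 : F) ∈ L := ⟨0, by simp, by rw [zero_smul, eich_zero_zero hstar P.ee]; exact one_mem G⟩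
  have hneg : ∀ z, z ∈ L → -z ∈ L := by
    intro z hz
    have hk : ∀ k : ℕ, k • z ∈ L := by
      intro k
      induction k with
      | zero => rw [zero_smul]; exact h0L
      | succ k ih => rw [succ_nsmul]; exact hadd _ _ ih hz
    obtain ⟨p, hp⟩ := CharP.exists F
    haveI := hp
    have hp0 : p ≠ 0 := by
      rintro rfl
      haveI : CharZero F := CharP.charP_to_charZero F
      exact not_finite F
    have := hk (p - 1)
    rwa [nsmul_eq_mul, Nat.cast_sub (by omega), CharP.cast_eq_zero, Nat.cast_one, zero_sub,
      neg_one_mul] at this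
  have hlam : ∀ z, z ∈ L → star μ * star μ / μ * z ∈ L := by
    rintro z ⟨b, hb, hbG⟩
    have h := mul_mem (mul_mem hr hbG) (inv_mem hr)
    have hok1 := (P.ok_up hb).act hstar r
    rw [eich_conj hstar r (P.ok_up hb), hre] at h
    rw [hre] at hok1
    rw [eich_smul hstar hok1 hμ, act_smul, hrd, smul_smul, smul_add, smul_smul, smul_smul,
      add_comm] at h
    have hz' : star μ * star μ / μ * z = star μ * z * κ := by rw [hκ]; ring
    rw [← hz'] at h
    have hn : star μ * μ * b + star (star μ * μ * b) +
        star (star μ * star μ / μ * z) * (star μ * star μ / μ * z) = 0 := by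
      simp only [star_mul', star_div₀, star_star]
      have hμs : star μ ≠ 0 := star_ne_zero.mpr hμ
      field_simp
      linear_combination (star μ * μ) * hb
    rw [eich_shift hstar _ (P.ok_up hn)] at h
    refine ⟨_, ?_, h⟩
    simp only [star_add, star_sub, star_star]
    linear_combination hn
  -- the multipliers form a subfield
  let S : Subfield F :=
    { carrier := {x | ∀ z ∈ L, x * z ∈ L}
      zero_mem' := fun z _ => by rw [zero_mul]; exact h0L
      one_mem' := fun z hz => by rwa [one_mul]
      add_mem' := fun {x y} hx hy z hz => by rw [add_mul]; exact hadd _ _ (hx z hz) (hy z hz)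
      mul_mem' := fun {x y} hx hy z hz => by rw [mul_assoc]; exact hx _ (hy z hz)
      neg_mem' := fun {x} hx z hz => by rw [neg_mul]; exact hneg _ (hx z hz)
      inv_mem' := fun x hx => by
        have hpow : ∀ k : ℕ, ∀ z ∈ L, x ^ k * z ∈ L := by
          intro k
          induction k with
          | zero => intro z hz; rwa [pow_zero, one_mul]
          | succ k ih => intro z hz; rw [pow_succ', mul_assoc]; exact hx _ (ih z hz)
        intro z hz
        rcases eq_or_ne x 0 with rfl | hx0
        · rw [_root_.inv_zero, zero_mul]; exact h0L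
        have hc : 2 ≤ Fintype.card F := Fintype.one_lt_card
        have : x⁻¹ = x ^ (Fintype.card F - 2) := by
          refine inv_eq_of_mul_eq_one_right ?_
          rw [← pow_succ', show Fintype.card F - 2 + 1 = Fintype.card F - 1 by omega,
            FiniteField.pow_card_sub_one_eq_one x hx0]
        rw [this]; exact hpow _ z hz }
  have hS : S = ⊤ := hgen S hlam
  have hLall : ∀ z : F, z ∈ L := fun z => by
    have := (hS ▸ Subfield.mem_top z : z ∈ S) 1 h1L
    rwa [mul_one] at this
  -- all central elements
  have hT : ∀ t : F, star t = -t → eich hstar P.e 0 t ∈ G := by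
    intro t ht
    obtain ⟨c, hc⟩ := exists_trace hstar hF (r := (1 : F)) (star_one F)
    obtain ⟨b₂, hb₂, hb₂G⟩ := hLall (-(c * t))
    rw [← one_smul F P.d] at hu
    have hb₁ : a + star a + star (1 : F) * 1 = 0 := by simpa using ha
    have h12 := mul_mem hu hb₂G
    have h21 := mul_mem hb₂G hu
    have h := mul_mem (inv_mem h12) h21
    have heq : eich hstar P.e ((-(c * t)) • P.d) b₂ * eich hstar P.e ((1 : F) • P.d) a =
        eich hstar P.e ((1 : F) • P.d) a * eich hstar P.e ((-(c * t)) • P.d) b₂ *
          eich hstar P.e 0 (-t) := by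
      rw [eich_mul hstar (P.ok_up hb₂) (P.ok_up hb₁), eich_mul hstar (P.ok_up hb₁) (P.ok_up hb₂),
        eich_mul hstar ((P.ok_up hb₁).add (P.ok_up hb₂)) ((EOk_zero_iff P.ee).mpr (by rw [star_neg, ht])),
        herm_zero_right, add_zero, add_comm ((1 : F) • P.d)]
      congr 1
      simp only [herm_smul_left, herm_smul_right, P.dd, star_neg, star_mul', star_one, ht, mul_one,
        one_mul, sub_zero]
      linear_combination (-t) * hc
    rw [heq, inv_mul_cancel_left] at h
    have h2 := inv_mem h
    have : (eich hstar P.e 0 (-t))⁻¹ = eich hstar P.e 0 t := by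
      rw [inv_eq_iff_mul_eq_one, eich_mul hstar ((EOk_zero_iff P.ee).mpr (by rw [star_neg, ht]))
        ((EOk_zero_iff P.ee).mpr ht), herm_zero_right, add_zero, sub_zero, neg_add_cancel,
        eich_zero_zero hstar P.ee]
    rwa [this] at h2
  refine eq_top_of_upper (hstar := hstar) hF hq P (fun z b hb => ?_) hg hoff
  obtain ⟨b', hb', hbG⟩ := hLall z
  have ht : star (b - b') = -(b - b') := by rw [star_sub]; linear_combination hb - hb'
  have h := mul_mem hbG (hT _ ht)
  rwa [eich_mul hstar (P.ok_up hb') ((EOk_zero_iff P.ee).mpr ht), add_zero, herm_zero_right,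
    sub_zero, add_sub_cancel] at h

end Cfsg.Agent.Small.Generation.TwoReg
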