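import Cfsg.Agent.Lib.Small.Unitary.Eichler

/-!
A hyperbolic frame of the three-dimensional unitary space, the action of the Eichler elements on it,
and conjugates of a regular unipotent element in the opposite root group.
-/

set_option autoImplicit false
set_option linter.unusedSectionVars false

namespace Cfsg.Agent.Small.Generation.TwoReg

open Matrix Cfsg.Agent.Small.Unitary

variable {F : Type*} [Field F] [Fintype F] [StarRing F] {q : ℕ}

/-- The form of a hyperbolic frame. -/
def J3 : Matrix (Fin 3) (Fin 3) F := !![0, 0, 1; 0, 1, 0; 1, 0, 0]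

theorem J3_herm : (J3 : Matrix (Fin 3) (Fin 3) F)ᴴ = J3 := by
  ext i j
  fin_cases i <;> fin_cases j <;> simp [J3]

theorem J3_sq : (J3 : Matrix (Fin 3) (Fin 3) F) * J3 = 1 := by
  ext i j
  fin_cases i <;> fin_cases j <;> simp [J3, Matrix.mul_apply, Fin.sum_univ_three]

set_option maxHeartbeats 2000000 in
theorem gM_iso {t s x y p m : F} (h1 : star s * t = 1) (h2 : star x * x = 1)
    (h3 : star x * p + star y * t = 0) (h4 : star t * m + star p * p + star m * t = 0) :
    (!![0, 0, t; 0, x, p; s, y, m] : Matrix (Fin 3) (Fin 3) F)ᴴ * J3 *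
      !![0, 0, t; 0, x, p; s, y, m] = J3 := by
  have h1' : star t * s = 1 := by
    have h := congrArg star h1
    rwa [star_mul', star_star, star_one, mul_comm] at h
  have h3' : star p * x + star t * y = 0 := by
    have h := congrArg star h3
    rw [star_add, star_mul', star_mul', star_star, star_star, star_zero] at h
    linear_combination h
  have hT : (!![0, 0, t; 0, x, p; s, y, m] : Matrix (Fin 3) (Fin 3) F)ᴴ =
      !![0, 0, star s; 0, star x, star y; star t, star p, star m] := by
    ext i j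
    fin_cases i <;> fin_cases j <;> simp
  rw [hT, J3, Matrix.mul_fin_three, Matrix.mul_fin_three]
  simp only [mul_zero, zero_mul, add_zero, zero_add, mul_one, h1, h1', h2]
  ext i j
  fin_cases i <;> fin_cases j <;> simp
  · linear_combination h3
  · linear_combination h3'
  · linear_combination h4

/-- A hyperbolic frame. -/
structure Frame (F : Type*) [Field F] [Fintype F] [StarRing F] where
  /-- The change of basis. -/
  Q : Matrix (Fin 3) (Fin 3) F
  gram : Qᴴ * Q = J3

theorem exists_frame (hstar : ∀ x : F, star x = x ^ q) (hF : Fintype.card F = q ^ 2) :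
    Nonempty (Frame F) := by
  have hu : IsUnit (J3 : Matrix (Fin 3) (Fin 3) F) := IsUnit.of_mul_eq_one _ J3_sq
  obtain ⟨P, ⟨P₁, rfl⟩, hP⟩ := Hermitian.exists_congr_one hstar hF 3 J3 J3_herm hu
  refine ⟨⟨((P₁⁻¹ : GL (Fin 3) F) : Matrix (Fin 3) (Fin 3) F), ?_⟩⟩
  calc ((P₁⁻¹ : GL (Fin 3) F) : Matrix (Fin 3) (Fin 3) F)ᴴ *
        ((P₁⁻¹ : GL (Fin 3) F) : Matrix (Fin 3) (Fin 3) F)
      = ((P₁ : Matrix (Fin 3) (Fin 3) F) * ((P₁⁻¹ : GL (Fin 3) F) : Matrix (Fin 3) (Fin 3) F))ᴴ *
          J3 * ((P₁ : Matrix (Fin 3) (Fin 3) F) *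
            ((P₁⁻¹ : GL (Fin 3) F) : Matrix (Fin 3) (Fin 3) F)) := by
        conv_lhs => rw [← Matrix.mul_one (((P₁⁻¹ : GL (Fin 3) F) : Matrix (Fin 3) (Fin 3) F)ᴴ), ← hP]
        simp only [Matrix.conjTranspose_mul, Matrix.mul_assoc]
    _ = J3 := by rw [P₁.mul_inv, Matrix.conjTranspose_one, Matrix.one_mul, Matrix.mul_one]

namespace Frame

variable (P : Frame F)

/-- The vector with given coordinates. -/
def co (α β γ : F) : Fin 3 → F := P.Q *ᵥ ![α, β, γ]

/-- First isotropic vector. -/
def e : Fin 3 → F := P.co 1 0 0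
/-- Middle vector. -/
def d : Fin 3 → F := P.co 0 1 0
/-- Second isotropic vector. -/
def f : Fin 3 → F := P.co 0 0 1

theorem herm_co (α β γ α' β' γ' : F) :
    herm (P.co α β γ) (P.co α' β' γ') = star α * γ' + star β * β' + star γ * α' := by
  rw [co, co, herm, Matrix.star_mulVec, ← Matrix.dotProduct_mulVec, Matrix.mulVec_mulVec, P.gram]
  simp [J3, dotProduct, Matrix.mulVec, Fin.sum_univ_three]

theorem co_add (α β γ α' β' γ' : F) :
    P.co α β γ + P.co α' β' γ' = P.co (α + α') (β + β') (γ + γ') := by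
  simp only [co, ← Matrix.mulVec_add]
  congr 1
  funext i
  fin_cases i <;> rfl

theorem co_smul (c α β γ : F) : c • P.co α β γ = P.co (c * α) (c * β) (c * γ) := by
  simp only [co, ← Matrix.mulVec_smul]
  congr 1
  funext i
  fin_cases i <;> rfl

theorem right_inv : P.Q * (J3 * P.Qᴴ) = 1 :=
  mul_eq_one_comm.mp (by rw [Matrix.mul_assoc, P.gram, J3_sq])

theorem expand (x : Fin 3 → F) : x = P.co (herm P.f x) (herm P.d x) (herm P.e x) := by
  obtain ⟨y, rfl⟩ : ∃ y, P.Q *ᵥ y = x :=
    ⟨(J3 * P.Qᴴ) *ᵥ x, by rw [Matrix.mulVec_mulVec, P.right_inv, Matrix.one_mulVec]⟩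
  have hy : P.Q *ᵥ y = P.co (y 0) (y 1) (y 2) := by
    rw [co]; congr 1; funext i; fin_cases i <;> rfl
  simp [hy, e, d, f, herm_co]

theorem ee : herm P.e P.e = 0 := by simp [e, herm_co]
theorem ed : herm P.e P.d = 0 := by simp [e, d, herm_co]
theorem dd : herm P.d P.d = 1 := by simp [d, herm_co]
theorem fd : herm P.f P.d = 0 := by simp [f, d, herm_co]
theorem ff : herm P.f P.f = 0 := by simp [f, herm_co]

theorem co_eq (α β γ : F) : P.co α β γ = α • P.e + β • P.d + γ • P.f := by
  simp [e, d, f, co_smul, co_add]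

theorem e_ne : P.e ≠ 0 := fun h => by
  have h1 : herm P.e P.f = 1 := by simp [e, f, herm_co]
  rw [h, herm_zero_left] at h1
  exact zero_ne_one h1

theorem ok_up {z a : F} (h : a + star a + star z * z = 0) : EOk P.e (z • P.d) a :=
  ⟨P.ee, by rw [herm_smul_right, P.ed, mul_zero], by
    rw [herm_smul_left, herm_smul_right, P.dd, mul_one]; exact h⟩

theorem ok_lo {z a : F} (h : a + star a + star z * z = 0) : EOk P.f (z • P.d) a :=
  ⟨P.ff, by rw [herm_smul_right, P.fd, mul_zero], by
    rw [herm_smul_left, herm_smul_right, P.dd, mul_one]; exact h⟩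

theorem act_up (hstar : ∀ x : F, star x = x ^ q) {z a : F} (h : a + star a + star z * z = 0)
    (α β γ : F) : act (eich hstar P.e (z • P.d) a) (P.co α β γ) =
      P.co (α + a * γ - star z * β) (β + z * γ) γ := by
  rw [act_eich hstar (P.ok_up h), herm_smul_left]
  simp only [e, d, herm_co, co_smul, co_add]
  congr 1 <;> simp <;> ring

theorem act_lo (hstar : ∀ x : F, star x = x ^ q) {z a : F} (h : a + star a + star z * z = 0)
    (α β γ : F) : act (eich hstar P.f (z • P.d) a) (P.co α β γ) =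
      P.co α (β + z * α) (γ + a * α - star z * β) := by
  rw [act_eich hstar (P.ok_lo h), herm_smul_left]
  simp only [f, d, herm_co, co_smul, co_add]
  congr 1 <;> simp <;> ring

/-- A conjugate of the upper regular element in the lower root group. -/
theorem exists_conj (hstar : ∀ x : F, star x = x ^ q) {a s : F} (ha : a + star a + 1 = 0)
    (hs : s ≠ 0) (r : F) :
    ∃ g : Cfsg.SU 3 F q, g * eich hstar P.e P.d a * g⁻¹ =
      eich hstar P.f ((-(star s * star s / s)) • P.d) (star s * s * a + r - star r) := by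
  have hs' : star s ≠ 0 := star_ne_zero.mpr hs
  obtain ⟨ξ, hξ⟩ : ∃ ξ : F, ξ = -(star s / s) := ⟨_, rfl⟩
  obtain ⟨p, hp⟩ : ∃ p : F, p = -(star r / star (star s * ξ)) := ⟨_, rfl⟩
  obtain ⟨η, hη⟩ : ∃ η : F, η = -(star p * ξ) := ⟨_, rfl⟩
  set M : Matrix (Fin 3) (Fin 3) F :=
    !![0, 0, (star s)⁻¹; 0, ξ, p / star s; s, η, star p * p * a / star s] with hM
  have hξξ : star ξ * ξ = 1 := by
    rw [hξ, star_neg, star_div₀, star_star]; field_simp
  have hMJ : Mᴴ * J3 * M = J3 := by
    refine gM_iso (mul_inv_cancel₀ hs') hξξ ?_ ?_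
    · rw [hη, star_neg, star_mul', star_star, div_eq_mul_inv]
      ring
    · rw [star_inv₀, star_div₀, star_div₀, star_mul', star_mul', star_star, star_star]
      field_simp
      linear_combination (star p * p) * ha
  have hdet : M.det = 1 := by
    rw [hM, Matrix.det_fin_three]
    simp [hξ]
    field_simp
  let g := emb hstar P.Q J3 J3_herm J3_sq P.gram M hMJ hdet
  have hg : ∀ α β γ : F, act g (P.co α β γ) = P.co ((M *ᵥ ![α, β, γ]) 0)
      ((M *ᵥ ![α, β, γ]) 1) ((M *ᵥ ![α, β, γ]) 2) := by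
    intro α β γ
    change embed P.Q (J3 * P.Qᴴ) M *ᵥ (P.Q *ᵥ _) = _
    rw [embed, Matrix.mul_sub, Matrix.mul_one, Matrix.sub_mul, P.right_inv, add_sub_cancel,
      Matrix.mulVec_mulVec, Matrix.mul_assoc, Matrix.mul_assoc J3, P.gram, J3_sq, Matrix.mul_one,
      co, ← Matrix.mulVec_mulVec]
    congr 1
    funext i
    fin_cases i <;> rfl
  refine ⟨g, ?_⟩
  have hge : act g P.e = s • P.f := by
    rw [e, hg, f, co_smul]
    congr 1 <;> simp [hM, Matrix.mulVec, dotProduct, Fin.sum_univ_three]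
  have hgd : act g P.d = ξ • P.d + η • P.f := by
    rw [d, hg, f, co_smul, co_smul, co_add]
    congr 1 <;> simp [hM, Matrix.mulVec, dotProduct, Fin.sum_univ_three]
  have hok : EOk P.e P.d a := ⟨P.ee, P.ed, by rw [P.dd]; exact ha⟩
  rw [eich_conj hstar g hok, hge, hgd]
  have hok1 : EOk (s • P.f) (ξ • P.d + η • P.f) a := by
    rw [← hge, ← hgd]; exact hok.act hstar g
  rw [eich_smul hstar hok1 hs, smul_add, smul_smul, smul_smul]
  have hξs : star s * ξ = -(star s * star s / s) := by rw [hξ]; ring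
  have hok2 : EOk P.f ((star s * ξ) • P.d) (star s * s * a) := by
    refine P.ok_lo ?_
    simp only [star_mul', star_star]
    linear_combination (star s * s) * ha + (star s * s) * hξξ
  rw [eich_shift hstar _ hok2, ← hξs]
  have hr : star s * η = r := by
    rw [hη, hp, star_neg, star_div₀, star_star, star_star]
    have hξ0 : ξ ≠ 0 := fun h => by simp [h] at hξξ
    field_simp
  rw [hr]

end Frame

end Cfsg.Agent.Small.Generation.TwoReg
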